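import Mathlib
import Groth.Prelude.Def_CAlgX

/-! helper7: local lemma for H1-regular ideals: if `I ≤ J` in `B`, `π : B → C` is surjective with
kernel `I` and `J.map π` is generated by an H1-regular sequence, then `I ⊓ J^2 ≤ I * J`. -/

set_option linter.style.haveILetI false
set_option linter.unusedVariables false
set_option linter.unusedSectionVars false

universe u

namespace Groth.Agent.Helper7.H1Reg


variable {B : Type u} [CommRing B] {C : Type u} [CommRing C]

theorem sum_mem_mul {c : ℕ} (I J : Ideal B) (F : Fin c → B) (hF : ∀ i, F i ∈ J)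
    (a : Fin c → B) (ha : ∀ i, a i ∈ I) : ∑ i, a i * F i ∈ I * J :=
  Ideal.sum_mem _ fun i _ => Ideal.mul_mem_mul (ha i) (hF i)

theorem relation_mem {c : ℕ} (I J : Ideal B) (π : B →+* C) (hπ : Function.Surjective π)
    (hker : RingHom.ker π = I) (F : Fin c → B) (hF : ∀ i, F i ∈ J)
    (v : Fin c → C)
    (hv : v ∈ Submodule.span C {v : Fin c → C | ∃ i j : Fin c,
      v = Pi.single i (π (F j)) - Pi.single j (π (F i))}) :
    ∀ a : Fin c → B, (∀ i, π (a i) = v i) → ∑ i, a i * F i ∈ I * J := by
  have hI : ∀ b : B, π b = 0 → b ∈ I := fun b hb => by rw [← hker]; exact hb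
  induction hv using Submodule.span_induction with
  | mem v hv =>
    obtain ⟨i, j, rfl⟩ := hv
    intro a ha
    let a' : Fin c → B := Pi.single i (F j) - Pi.single j (F i)
    have ha' : ∑ k, a' k * F k = 0 := by
      simp only [a', Pi.sub_apply, sub_mul, Finset.sum_sub_distrib, Pi.single_apply,
        ite_mul, zero_mul, Finset.sum_ite_eq', Finset.mem_univ, if_true]
      ring
    have hd : ∀ k, a k - a' k ∈ I := by
      intro k
      apply hI
      rw [map_sub, ha k]
      simp only [a', Pi.sub_apply, Pi.single_apply, map_sub]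
      rw [apply_ite π, apply_ite π, map_zero]
      simp
    have := sum_mem_mul I J F hF (fun k => a k - a' k) hd
    have h2 : ∑ k, (a k - a' k) * F k = ∑ k, a k * F k := by
      simp only [sub_mul, Finset.sum_sub_distrib, ha', sub_zero]
    rwa [h2] at this
  | zero =>
    intro a ha
    exact sum_mem_mul I J F hF a fun i => hI _ (by simpa using ha i)
  | add v w _ _ ihv ihw =>
    intro a ha
    choose b hb using fun i => hπ (w i)
    have h1 := ihv (fun i => a i - b i) (fun i => by
      rw [map_sub, ha i, hb i]; simp)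
    have h2 := ihw b hb
    have := Ideal.add_mem _ h1 h2
    have h3 : ∑ i, (a i - b i) * F i + ∑ i, b i * F i = ∑ i, a i * F i := by
      simp only [sub_mul, Finset.sum_sub_distrib]; ring
    rwa [h3] at this
  | smul r v _ ihv =>
    intro a ha
    obtain ⟨r', rfl⟩ := hπ r
    choose b hb using fun i => hπ (v i)
    have h1 := ihv b hb
    have hd : ∀ k, a k - r' * b k ∈ I := by
      intro k
      apply hI
      rw [map_sub, ha k, map_mul, hb k]
      simp
    have h2 := sum_mem_mul I J F hF (fun k => a k - r' * b k) hd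
    have := Ideal.add_mem _ h2 (Ideal.mul_mem_left _ r' h1)
    have h3 : ∑ k, (a k - r' * b k) * F k + r' * ∑ i, b i * F i = ∑ i, a i * F i := by
      simp only [sub_mul, Finset.sum_sub_distrib, Finset.mul_sum]
      have : ∀ k, r' * b k * F k = r' * (b k * F k) := fun k => by ring
      simp only [this]; ring
    rwa [h3] at this

/-- Local lemma. -/
theorem inf_sq_le_mul {c : ℕ} (I J : Ideal B) (hIJ : I ≤ J) (π : B →+* C)
    (hπ : Function.Surjective π) (hker : RingHom.ker π = I) (f : Fin c → C)
    (hf : CAlgX.IsH1Regular f) (hspan : Ideal.span (Set.range f) = J.map π) :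
    I ⊓ J ^ 2 ≤ I * J := by
  have hI : ∀ b : B, π b = 0 → b ∈ I := fun b hb => by rw [← hker]; exact hb
  have hI' : ∀ b : B, b ∈ I → π b = 0 := fun b hb => by rw [← hker] at hb; exact hb
  choose F hFf using fun i => hπ (f i)
  -- F i ∈ J
  have hcomap : (J.map π).comap π = J := by
    rw [Ideal.comap_map_of_surjective π hπ, ← RingHom.ker_eq_comap_bot, hker]
    exact sup_eq_left.mpr hIJ
  have hF : ∀ i, F i ∈ J := by
    intro i
    rw [← hcomap, Ideal.mem_comap, hFf i, ← hspan]
    exact Ideal.subset_span ⟨i, rfl⟩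
  -- J ≤ span F ⊔ I
  have hJ : J ≤ Ideal.span (Set.range F) ⊔ I := by
    intro j hj
    have h1 : π j ∈ Ideal.span (Set.range f) := by
      rw [hspan]; exact Ideal.mem_map_of_mem _ hj
    obtain ⟨cf, hcf⟩ := (Ideal.mem_span_range_iff_exists_fun).mp h1
    choose d hd using fun i => hπ (cf i)
    have h2 : j - ∑ i, d i * F i ∈ I := by
      apply hI
      rw [map_sub, map_sum, ← hcf]
      simp only [map_mul, hd, hFf, sub_self]
    have h3 : ∑ i, d i * F i ∈ Ideal.span (Set.range F) :=
      Ideal.sum_mem _ fun i _ => Ideal.mul_mem_left _ _ (Ideal.subset_span ⟨i, rfl⟩)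
    have : j = ∑ i, d i * F i + (j - ∑ i, d i * F i) := by ring
    rw [this]
    exact Submodule.add_mem_sup h3 h2
  have hFJ : Ideal.span (Set.range F) ≤ J := Ideal.span_le.mpr (by rintro _ ⟨i, rfl⟩; exact hF i)
  -- J^2 ≤ span F * span F ⊔ I * J
  have hJ2 : J ^ 2 ≤ Ideal.span (Set.range F) * Ideal.span (Set.range F) ⊔ I * J := by
    calc J ^ 2 = J * J := sq J
      _ ≤ (Ideal.span (Set.range F) ⊔ I) * J := Ideal.mul_mono_left hJ
      _ = Ideal.span (Set.range F) * J ⊔ I * J := Ideal.sup_mul _ _ _
      _ ≤ Ideal.span (Set.range F) * (Ideal.span (Set.range F) ⊔ I) ⊔ I * J :=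
          sup_le_sup_right (Ideal.mul_mono_right hJ) _
      _ = Ideal.span (Set.range F) * Ideal.span (Set.range F) ⊔
            Ideal.span (Set.range F) * I ⊔ I * J := by rw [Ideal.mul_sup]
      _ ≤ Ideal.span (Set.range F) * Ideal.span (Set.range F) ⊔ I * J := by
          refine sup_le (sup_le le_sup_left ?_) le_sup_right
          refine le_trans ?_ le_sup_right
          rw [mul_comm]
          exact Ideal.mul_mono_right hFJ
  rintro x ⟨hxI, hxJ⟩
  obtain ⟨z, hz, y, hy, hzy⟩ := Submodule.mem_sup.mp (hJ2 hxJ)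
  have hyI : y ∈ I := Ideal.mul_le_right (I := J) (J := I) (by rwa [mul_comm])
  have hzI : z ∈ I := by
    have : z = x - y := by rw [← hzy]; ring
    rw [this]; exact Ideal.sub_mem _ hxI hyI
  rw [← hzy]
  refine Ideal.add_mem _ ?_ hy
  clear hzy hxI hxJ
  -- z = ∑ a_i F_i with a_i ∈ span F
  have hz' : z ∈ Ideal.span (Set.range F) • (Submodule.span B (Set.range F)) := hz
  obtain ⟨a, ha, rfl⟩ := (Submodule.mem_ideal_smul_span_iff_exists_sum _ _ _).mp hz'
  have hsum : (a.sum fun i c => c • F i) = ∑ i, a i * F i := by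
    rw [Finsupp.sum_fintype _ _ (fun i => by simp)]
    simp
  rw [hsum] at hzI ⊢
  have hrel : ∑ i, π (a i) * f i = 0 := by
    have := hI' _ hzI
    rw [map_sum] at this
    simpa only [map_mul, hFf] using this
  have hmem := hf (fun i => π (a i)) hrel
  have hset : {v : Fin c → C | ∃ i j : Fin c, v = Pi.single i (f j) - Pi.single j (f i)} =
      {v : Fin c → C | ∃ i j : Fin c, v = Pi.single i (π (F j)) - Pi.single j (π (F i))} := by
    simp only [hFf]
  rw [hset] at hmem
  exact relation_mem I J π hπ hker F hF _ hmem a (fun i => rfl)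

end Groth.Agent.Helper7.H1Reg
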