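import Mathlib
import Groth.Prelude.Def_CAlgX
import Groth.Agent.Lib.Helper7.H1Reg.Local

/-! helper7: for ideals `I ≤ J` with `J/I` locally generated by an H1-regular sequence,
`I ⊓ J^2 = I * J` (globalisation of the local lemma through a colon ideal). -/

set_option linter.style.haveILetI false
set_option linter.unusedVariables false
set_option linter.unusedSectionVars false

universe u

namespace Groth.Agent.Helper7.H1Reg

theorem main {A : Type u} [CommRing A] (I J : Ideal A)
    (hIJ : I ≤ J)
    (h : ∀ (𝔮 : Ideal (A ⧸ I)) [𝔮.IsPrime], J.map (Ideal.Quotient.mk I) ≤ 𝔮 →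
      ∃ g : A ⧸ I, g ∉ 𝔮 ∧ ∃ (c : ℕ) (f : Fin c → Localization.Away g),
        CAlgX.IsH1Regular f ∧
          Ideal.span (Set.range f) =
            (J.map (Ideal.Quotient.mk I)).map (algebraMap (A ⧸ I) (Localization.Away g))) :
    I ⊓ J ^ 2 = I * J := by
  apply le_antisymm
  · intro x hx
    by_contra hxn
    let 𝔠 : Ideal A := (I * J).colon {x}
    have h𝔠 : 𝔠 ≠ ⊤ := by
      intro htop
      have h1 : (1 : A) ∈ 𝔠 := htop ▸ Submodule.mem_top
      rw [Submodule.mem_colon_singleton] at h1
      exact hxn (by simpa using h1)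
    obtain ⟨𝔭, h𝔭max, h𝔠𝔭⟩ := Ideal.exists_le_maximal 𝔠 h𝔠
    haveI : 𝔭.IsPrime := h𝔭max.isPrime
    by_cases hJ𝔭 : J ≤ 𝔭
    · have hI𝔭 : I ≤ 𝔭 := hIJ.trans hJ𝔭
      haveI : (𝔭.map (Ideal.Quotient.mk I)).IsPrime :=
        Ideal.map_isPrime_of_surjective Ideal.Quotient.mk_surjective (by rwa [Ideal.mk_ker])
      obtain ⟨g, hg, c, f, hf, hspan⟩ := h (𝔭.map (Ideal.Quotient.mk I)) (Ideal.map_mono hJ𝔭)
      obtain ⟨g', rfl⟩ := Ideal.Quotient.mk_surjective g
      have hg' : g' ∉ 𝔭 := fun hh => hg (Ideal.mem_map_of_mem _ hh)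
      let B := Localization.Away g'
      let IB : Ideal B := I.map (algebraMap A B)
      let JB : Ideal B := J.map (algebraMap A B)
      have hloc : IsLocalization (Algebra.algebraMapSubmonoid (A ⧸ I) (Submonoid.powers g'))
          (B ⧸ IB) := inferInstance
      have hsub : Algebra.algebraMapSubmonoid (A ⧸ I) (Submonoid.powers g') =
          Submonoid.powers (Ideal.Quotient.mk I g') := by
        simp [Algebra.algebraMapSubmonoid, Submonoid.map_powers]
      rw [hsub] at hloc
      haveI : IsLocalization.Away (Ideal.Quotient.mk I g') (B ⧸ IB) := hloc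
      let e : Localization.Away (Ideal.Quotient.mk I g') ≃ₐ[A ⧸ I] B ⧸ IB :=
        IsLocalization.algEquiv (Submonoid.powers (Ideal.Quotient.mk I g')) _ _
      let π : B →+* Localization.Away (Ideal.Quotient.mk I g') :=
        (e.symm : B ⧸ IB →+* Localization.Away (Ideal.Quotient.mk I g')).comp
          (Ideal.Quotient.mk IB)
      have hπ : Function.Surjective π := e.symm.surjective.comp Ideal.Quotient.mk_surjective
      have hker : RingHom.ker π = IB := by
        ext b
        rw [RingHom.mem_ker]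
        show e.symm (Ideal.Quotient.mk IB b) = 0 ↔ _
        rw [map_eq_zero_iff _ e.symm.injective, Ideal.Quotient.eq_zero_iff_mem]
      have hcomp : π.comp (algebraMap A B) =
          (algebraMap (A ⧸ I) (Localization.Away (Ideal.Quotient.mk I g'))).comp
            (Ideal.Quotient.mk I) := by
        refine RingHom.ext (fun a => ?_)
        show e.symm (Ideal.Quotient.mk IB (algebraMap A B a)) = _
        have : Ideal.Quotient.mk IB (algebraMap A B a) =
            algebraMap (A ⧸ I) (B ⧸ IB) (Ideal.Quotient.mk I a) := rfl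
        rw [this, e.symm.commutes]
        rfl
      have hspan' : Ideal.span (Set.range f) = JB.map π := by
        rw [hspan, Ideal.map_map, Ideal.map_map, hcomp]
      have hle := inf_sq_le_mul IB JB (Ideal.map_mono hIJ) π hπ hker f hf hspan'
      have hxB : algebraMap A B x ∈ IB ⊓ JB ^ 2 :=
        ⟨Ideal.mem_map_of_mem _ hx.1, by
          rw [← Ideal.map_pow]; exact Ideal.mem_map_of_mem _ hx.2⟩
      have hxB' : algebraMap A B x ∈ (I * J).map (algebraMap A B) := by
        rw [Ideal.map_mul]; exact hle hxB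
      obtain ⟨m, ⟨n, rfl⟩, hm⟩ :=
        (IsLocalization.algebraMap_mem_map_algebraMap_iff (Submonoid.powers g') B (I * J) x).mp hxB'
      have hn : g' ^ n ∈ 𝔠 := by
        rw [Submodule.mem_colon_singleton]; exact hm
      exact hg' (Ideal.IsPrime.mem_of_pow_mem inferInstance n (h𝔠𝔭 hn))
    · obtain ⟨j, hjJ, hj𝔭⟩ := Set.not_subset.mp hJ𝔭
      apply hj𝔭
      apply h𝔠𝔭
      rw [Submodule.mem_colon_singleton]
      show j • x ∈ I * J
      rw [smul_eq_mul, mul_comm j x]
      exact Ideal.mul_mem_mul hx.1 hjJ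
  · refine le_inf Ideal.mul_le_left ?_
    · rw [sq]; exact Ideal.mul_mono_left hIJ

end Groth.Agent.Helper7.H1Reg
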